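import Cfsg.Agent.H292.KB.Count

/-!
# All irreducible characters but one lie in the principal block, own characteristic (helper292, S4822, S4876)

`all_but_one` : `X` simple of Lie type of odd characteristic `p`: all irreducible characters but one (the Steinberg
character) lie in the principal `p`-block.
-/

set_option autoImplicit false
set_option linter.unusedSectionVars false

namespace Cfsg.Agent.H292.KB

open Cfsg Subgroup
open Cfsg.Agent.BpLieP.Big (LocChar)
open Cfsg.Agent.Blocks.Basic
open Cfsg.Agent.Characters.Core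

universe u

/-- outside the principal block: defect zero -/
theorem dz_of_not_mem {X : Type u} [Group X] [Finite X] {p : ℕ} [hp : Fact p.Prime] {M : Ideal AlgInt}
    (hM : IsPModular p M) (hloc : LocChar p X) {χ : IrrCharacter X} (hχ : χ ∉ principalBlock M X) :
    p ^ (Nat.card X).factorization p ∣ charDegree (χ : X → ℂ) := by
  have : M.IsPrime := hM.2.1.isPrime
  have hB : IsPBlock M (blockOf M (χ : X → ℂ)) := isPBlock_blockOf χ
  obtain ⟨D, hD⟩ := H729.CharTwoBlock.exists_isDefectGroup hM hB
  have hDp : IsPGroup p D := H729.CharTwoBlock.isPGroup_of_isDefectGroup hD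
  by_cases hD1 : D = ⊥
  · subst hD1
    exact H729.CharTwoBlock.card_dvd_of_defect_bot hM hB hD (mem_blockOf_self χ)
  · exfalso
    have h1 := hloc D hDp hD1
    have h2 := S0955.result p M hM _ hB D hD
    have hCD : centralizer (D : Set X) ≤ D := by
      intro c hc
      have hcN : c ∈ normalizer (D : Set X) := Subgroup.centralizer_le_normalizer _ hc
      have h3 : (⟨c, hcN⟩ : normalizer (D : Set X)) ∈
          centralizer (pCore p (normalizer (D : Set X)) : Set (normalizer (D : Set X))) := by
        rw [mem_centralizer_iff]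
        intro y hy
        apply Subtype.ext
        rw [mem_centralizer_iff] at hc
        refine hc (y : X) ?_
        have h4 : (y : X) ∈ (pCore p (normalizer (D : Set X))).map (normalizer (D : Set X)).subtype :=
          ⟨y, hy, rfl⟩
        rw [h2] at h4
        exact h4
      have h5 : c ∈ (pCore p (normalizer (D : Set X))).map (normalizer (D : Set X)).subtype :=
        ⟨⟨c, hcN⟩, h1 h3, rfl⟩
      rwa [h2] at h5
    have h6 := H729.CharTwoBlock.eq_principal_of_centralizer hM hB hD (hDp.to_le hCD)
    apply hχ
    rw [← h6]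
    exact mem_blockOf_self χ

/-- **All irreducible characters but one lie in the principal block.** -/
theorem all_but_one {X : Type u} [Group X] [Finite X] [IsSimpleGroup X] {p : ℕ} [hp : Fact p.Prime] (hp2 : p ≠ 2)
    (hL : IsLieTypeChar p X) (M : Ideal AlgInt) (hM : IsPModular p M) :
    ∃ St : IrrCharacter X, ∀ χ : IrrCharacter X, χ ≠ St → χ ∈ principalBlock M X := by
  have hloc : LocChar p X := H400.LieLocal.local_char_of_lie hL (fun h => hp2 h.1)
  have hS := H716.SplitAb.hasSplitAb_of_lie hp.out hL
  have hperf := H330.Gow.perfect_of_split (H330.Gow.hasSplit_of_ab hS)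
  have key : ∀ ψ : IrrCharacter X, p ^ (Nat.card X).factorization p ∣ charDegree (ψ : X → ℂ) →
      ¬ p ∣ Nat.card X / charDegree (ψ : X → ℂ) := by
    intro ψ hψ
    obtain ⟨c, hc⟩ : charDegree (ψ : X → ℂ) ∣ Nat.card X := H674.Codegree.charDegree_dvd_card ψ.2
    have hd0 : charDegree (ψ : X → ℂ) ≠ 0 := (charDegree_pos ψ.2).ne'
    rw [hc, Nat.mul_div_cancel_left _ (Nat.pos_of_ne_zero hd0)]
    intro hpc
    have h1 : p ^ ((Nat.card X).factorization p + 1) ∣ Nat.card X := by
      rw [pow_succ]
      conv_rhs => rw [hc]
      exact mul_dvd_mul hψ hpc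
    exact Nat.pow_succ_factorization_not_dvd Nat.card_pos.ne' hp.out h1
  by_cases hex : ∃ St : IrrCharacter X, St ∉ principalBlock M X
  · obtain ⟨St, hSt⟩ := hex
    refine ⟨St, fun χ hne => ?_⟩
    by_contra hcon
    exact hne (H330.GowOne.unique_of_hasSplitAb hS hperf χ St (key χ (dz_of_not_mem hM hloc hcon))
      (key St (dz_of_not_mem hM hloc hSt)))
  · push Not at hex
    exact ⟨⟨fun _ => 1, isIrr_one⟩, fun χ _ => hex χ⟩

end Cfsg.Agent.H292.KB
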