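import Mathlib
import Cfsg.Agent.BpLieP.Big
import Cfsg.Agent.Lib.Cores
import Cfsg.Agent.S4613

/-!
# Radical `p`-subgroups of almost simple groups with socle of Lie type of characteristic `p` (helper292, S4822, W5)

`T` a normal subgroup of `A` of index prime to `p`, simple of Lie type of characteristic `p` and local characteristic `p`,
`C_A(T) = 1`: the centralizer of a nontrivial radical `p`-subgroup of `A` is a `p`-group (`cent_isPGroup`).
-/

set_option autoImplicit false
set_option linter.unusedSectionVars false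

namespace Cfsg.Agent.H292.KB.Loc

open Cfsg Subgroup
open Cfsg.Agent.BpLieP.Big (LocChar)
open Cfsg.Agent.Lib

universe u

variable {A : Type u} [Group A] [Finite A] {p : ℕ} [hp : Fact p.Prime] {T : Subgroup A} [hTn : T.Normal]

/-- `p`-subgroups lie in the normal subgroups of index prime to `p` -/
theorem le_of_isPGroup (hcop : ¬ p ∣ T.index) {D : Subgroup A} (hD : IsPGroup p D) : D ≤ T := by
  intro x hx
  obtain ⟨k, hk⟩ := hD ⟨x, hx⟩
  have hk' : x ^ p ^ k = 1 := congrArg Subtype.val hk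
  have h1 : (QuotientGroup.mk x : A ⧸ T) ^ p ^ k = 1 := by
    rw [← QuotientGroup.mk_pow, hk', QuotientGroup.mk_one]
  have h2 : (QuotientGroup.mk x : A ⧸ T) ^ T.index = 1 := by
    rw [Subgroup.index]
    exact pow_card_eq_one'
  have h3 : (p ^ k).Coprime T.index := Nat.Coprime.pow_left _ ((Nat.Prime.coprime_iff_not_dvd hp.out).2 hcop)
  have h4 : orderOf (QuotientGroup.mk x : A ⧸ T) ∣ 1 := by
    rw [← h3]
    exact Nat.dvd_gcd (orderOf_dvd_of_pow_eq_one h1) (orderOf_dvd_of_pow_eq_one h2)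
  rw [Nat.dvd_one, orderOf_eq_one_iff, QuotientGroup.eq_one_iff] at h4
  exact h4

/-- **The centralizer in `T` of a radical `p`-subgroup.** -/
theorem centralizer_inf_le (hloc : LocChar p T) (hcop : ¬ p ∣ T.index) {D : Subgroup A} (hDp : IsPGroup p D)
    (hD1 : D ≠ ⊥) (hrad : (pCore p (normalizer (D : Set A))).map (normalizer (D : Set A)).subtype = D) {t : A}
    (htT : t ∈ T) (htc : ∀ x ∈ D, t * x = x * t) : t ∈ D := by
  have hDT : D ≤ T := le_of_isPGroup hcop hDp
  obtain ⟨D', hD'⟩ : ∃ D' : Subgroup T, D' = D.subgroupOf T := ⟨_, rfl⟩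
  have hD'mem : ∀ x : T, x ∈ D' ↔ (x : A) ∈ D := fun x => by rw [hD', mem_subgroupOf]
  have hD'p : IsPGroup p D' := by
    rw [hD']
    exact hDp.of_equiv (subgroupOfEquivOfLe hDT).symm
  have hD'1 : D' ≠ ⊥ := by
    intro h
    apply hD1
    rw [eq_bot_iff]
    intro x hx
    have h1 : (⟨x, hDT hx⟩ : T) ∈ D' := (hD'mem _).2 hx
    rw [h, mem_bot] at h1
    rw [mem_bot]
    exact congrArg Subtype.val h1
  have hchar := hloc D' hD'p hD'1
  obtain ⟨N', hN'⟩ : ∃ N' : Subgroup T, N' = normalizer (D' : Set T) := ⟨_, rfl⟩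
  rw [← hN'] at hchar
  have hcharac : (pCore p N').Characteristic := Cores.pCore_characteristic p
  -- the image of `O_p(N_T(D))`
  obtain ⟨Q, hQ⟩ : ∃ Q : Subgroup A, Q = ((pCore p N').map N'.subtype).map T.subtype := ⟨_, rfl⟩
  have hQp : IsPGroup p Q := by
    rw [hQ]
    exact ((Cores.pCore_isPGroup p).map _).map _
  have hQmem : ∀ x : A, x ∈ Q ↔ ∃ (hxT : x ∈ T) (hxN : (⟨x, hxT⟩ : T) ∈ N'), (⟨⟨x, hxT⟩, hxN⟩ : N') ∈ pCore p N' := by
    intro x
    rw [hQ]
    constructor
    · rintro ⟨_, ⟨y, hy, rfl⟩, rfl⟩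
      exact ⟨y.1.2, y.2, hy⟩
    · rintro ⟨h1, h2, h3⟩
      exact ⟨_, ⟨_, h3, rfl⟩, rfl⟩
  -- elements of `N_A(D)` normalise `Q`
  have hnorm : ∀ n ∈ normalizer (D : Set A), ∀ x ∈ Q, n * x * n⁻¹ ∈ Q := by
    intro n hn x hx
    obtain ⟨hxT, hxN, hxp⟩ := (hQmem x).1 hx
    let α : T ≃* T := MulAut.conjNormal n
    have hα : ∀ y : T, ((α y : T) : A) = n * y * n⁻¹ := fun y => MulAut.conjNormal_apply n y
    have hαD : ∀ y : T, y ∈ D' ↔ α y ∈ D' := by
      intro y
      rw [hD'mem, hD'mem, hα]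
      exact mem_normalizer_iff.1 hn y
    have hαN : ∀ y : T, y ∈ N' → α y ∈ N' := by
      intro y hy
      rw [hN', mem_normalizer_iff] at hy ⊢
      intro z
      obtain ⟨w, rfl⟩ := α.surjective z
      rw [← hαD, hy w, hαD, map_mul, map_mul, map_inv]
    have hmap : N'.map α.toMonoidHom = N' := by
      refine Subgroup.eq_of_le_of_card_ge ?_ (Nat.card_congr (N'.equivMapOfInjective _ α.injective).toEquiv).le
      rintro _ ⟨y, hy, rfl⟩
      exact hαN y hy
    let β : N' ≃* N' := (α.subgroupMap N').trans (MulEquiv.subgroupCongr hmap)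
    have hβ : ∀ y : N', ((β y : N') : T) = α y := fun y => rfl
    have h1 : (pCore p N').map β.toMonoidHom = pCore p N' := Subgroup.characteristic_iff_map_eq.1 hcharac β
    have h2 : β ⟨⟨x, hxT⟩, hxN⟩ ∈ pCore p N' := by
      rw [← h1]
      exact ⟨_, hxp, rfl⟩
    rw [hQmem]
    have e : n * x * n⁻¹ = ((β ⟨⟨x, hxT⟩, hxN⟩ : N') : T) := by rw [hβ, hα]
    rw [e]
    exact ⟨(β ⟨⟨x, hxT⟩, hxN⟩ : N').1.2, (β ⟨⟨x, hxT⟩, hxN⟩ : N').2, h2⟩
  have hQN : Q ≤ normalizer (D : Set A) := by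
    intro x hx
    obtain ⟨hxT, hxN, -⟩ := (hQmem x).1 hx
    rw [hN', mem_normalizer_iff] at hxN
    rw [mem_normalizer_iff]
    intro z
    constructor
    · intro hz
      have := (hxN ⟨z, hDT hz⟩).1 ((hD'mem _).2 hz)
      exact (hD'mem _).1 this
    · intro hz
      have hzT : z ∈ T := by
        have h5 : z = x⁻¹ * (x * z * x⁻¹) * x := by group
        rw [h5]
        exact mul_mem (mul_mem (inv_mem hxT) (hDT hz)) hxT
      have := (hxN ⟨z, hzT⟩).2 ((hD'mem _).2 hz)
      exact (hD'mem _).1 this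
  have hQD : Q ≤ D := by
    have h1 : (Q.subgroupOf (normalizer (D : Set A))).Normal := by
      refine ⟨fun x hx g => ?_⟩
      rw [mem_subgroupOf] at hx ⊢
      exact hnorm g g.2 x hx
    have h2 : IsPGroup p (Q.subgroupOf (normalizer (D : Set A))) :=
      hQp.of_equiv (subgroupOfEquivOfLe hQN).symm
    have h3 := Cores.le_pCore h1 h2
    intro x hx
    rw [← hrad]
    exact ⟨⟨x, hQN hx⟩, h3 hx, rfl⟩
  -- `t` centralises `O_p(N_T(D))`
  have htN : (⟨t, htT⟩ : T) ∈ N' := by
    rw [hN', mem_normalizer_iff]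
    intro z
    rw [hD'mem, hD'mem]
    constructor
    · intro hz
      have : ((⟨t, htT⟩ * z * ⟨t, htT⟩⁻¹ : T) : A) = z := by
        show t * (z : A) * t⁻¹ = z
        rw [htc _ hz, mul_inv_cancel_right]
      rw [this]; exact hz
    · intro hz
      have hz' : t * (z : A) * t⁻¹ ∈ D := hz
      have h5 := htc _ hz'
      have h6 : (z : A) = t * z * t⁻¹ := by
        have h7 : t * (t * (z : A) * t⁻¹) * t⁻¹ = t * z * t⁻¹ := by
          rw [h5]; group
        have h8 : t * (z : A) * t⁻¹ = z := by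
          have h9 := congrArg (fun w => t⁻¹ * w * t) h7
          simpa [mul_assoc] using h9
        exact h8.symm
      rw [h6]; exact hz'
  have h1 : (⟨⟨t, htT⟩, htN⟩ : N') ∈ pCore p N' := by
    apply hchar
    rw [mem_centralizer_iff]
    intro y hy
    apply Subtype.ext
    apply Subtype.ext
    show ((y : T) : A) * t = t * ((y : T) : A)
    exact (htc _ (hQD ((hQmem _).2 ⟨(y : T).2, y.2, hy⟩))).symm
  exact hQD ((hQmem _).2 ⟨htT, htN, h1⟩)

/-- `y` centralises the normaliser in `T` of every `p`-subgroup between `D` and its centralizer -/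
theorem comm_normalizer {D : Subgroup A} (hDp : IsPGroup p D)
    (hDc : ∀ t ∈ T, (∀ x ∈ D, t * x = x * t) → t ∈ D) {y : A} {r : ℕ} (hr : r.Coprime p) (hy : y ^ r = 1)
    {R : Subgroup A} (hDR : D ≤ R) (hyR : ∀ x ∈ R, y * x = x * y) {g : A} (hgT : g ∈ T)
    (hg : g ∈ normalizer (R : Set A)) : y * g = g * y := by
  obtain ⟨c, hc⟩ : ∃ c, c = y * g * y⁻¹ * g⁻¹ := ⟨_, rfl⟩
  have hcT : c ∈ T := by
    rw [hc]
    exact mul_mem (hTn.conj_mem g hgT y) (inv_mem hgT)
  have hcD : c ∈ D := by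
    refine hDc c hcT fun x hx => ?_
    have hxR := hDR hx
    have h1 : g⁻¹ * x * g ∈ R := by
      have := (mem_normalizer_iff.1 (inv_mem hg) x).1 hxR
      rwa [inv_inv] at this
    have h2 := hyR _ h1
    have h3 := hyR _ hxR
    have e1 : c * x = y * g * y⁻¹ * (g⁻¹ * x * g) * g⁻¹ := by rw [hc]; group
    have e2 : y⁻¹ * (g⁻¹ * x * g) = (g⁻¹ * x * g) * y⁻¹ := by
      rw [inv_mul_eq_iff_eq_mul, ← mul_assoc, h2, mul_inv_cancel_right]
    calc c * x = y * g * (y⁻¹ * (g⁻¹ * x * g)) * g⁻¹ := by rw [e1]; group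
      _ = y * x * (g * y⁻¹ * g⁻¹) := by rw [e2]; group
      _ = x * y * (g * y⁻¹ * g⁻¹) := by rw [h3]
      _ = x * c := by rw [hc]; group
  have hyc : y * c = c * y := hyR c (hDR hcD)
  have hpow : ∀ k : ℕ, y ^ k * g * (y ^ k)⁻¹ = c ^ k * g := by
    intro k
    induction k with
    | zero => simp
    | succ k ih =>
      have hck : y * c ^ k = c ^ k * y := (Commute.pow_right hyc k)
      calc y ^ (k + 1) * g * (y ^ (k + 1))⁻¹ = y * (y ^ k * g * (y ^ k)⁻¹) * y⁻¹ := by rw [pow_succ']; group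
        _ = y * c ^ k * g * y⁻¹ := by rw [ih]; group
        _ = c ^ k * (y * g * y⁻¹ * g⁻¹) * g := by rw [hck]; group
        _ = c ^ (k + 1) * g := by rw [← hc, pow_succ]
  have hcr : c ^ r = 1 := by
    have h1 := hpow r
    rw [hy, one_mul, inv_one, mul_one] at h1
    exact (right_eq_mul.1 h1)
  have hc1 : c = 1 := by
    obtain ⟨k, hk⟩ := hDp ⟨c, hcD⟩
    have hk' : c ^ p ^ k = 1 := congrArg Subtype.val hk
    have h3 : r.Coprime (p ^ k) := Nat.Coprime.pow_right _ hr
    have h4 : orderOf c ∣ 1 := by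
      rw [← h3]
      exact Nat.dvd_gcd (orderOf_dvd_of_pow_eq_one hcr) (orderOf_dvd_of_pow_eq_one hk')
    rwa [Nat.dvd_one, orderOf_eq_one_iff] at h4
  rw [hc1] at hc
  have h5 : y * g * y⁻¹ = g := by
    have := hc.symm
    rwa [mul_inv_eq_one] at this
  rwa [mul_inv_eq_iff_eq_mul] at h5

/-- **The centralizer of a radical `p`-subgroup.** -/
theorem cent_isPGroup [IsSimpleGroup T] (hL : IsLieTypeChar p T) (hloc : LocChar p T)
    (hcen : centralizer (T : Set A) = ⊥) (hcop : ¬ p ∣ T.index) {D : Subgroup A} (hDp : IsPGroup p D)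
    (hD1 : D ≠ ⊥) (hrad : (pCore p (normalizer (D : Set A))).map (normalizer (D : Set A)).subtype = D) :
    IsPGroup p (centralizer (D : Set A)) := by
  classical
  have hDc : ∀ t ∈ T, (∀ x ∈ D, t * x = x * t) → t ∈ D := fun t ht h =>
    centralizer_inf_le hloc hcop hDp hD1 hrad ht h
  by_contra hC
  obtain ⟨r, hr, hrp, hrd⟩ : ∃ r : ℕ, r.Prime ∧ r ≠ p ∧ r ∣ Nat.card (centralizer (D : Set A)) := by
    by_contra hcon
    push Not at hcon
    apply hC
    rw [IsPGroup.iff_card]
    refine ⟨_, Nat.eq_prime_pow_of_unique_prime_dvd Nat.card_pos.ne' fun {r} hr hrd => ?_⟩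
    by_contra hne
    exact hcon r hr hne hrd
  have : Fact r.Prime := ⟨hr⟩
  obtain ⟨y', hy'⟩ := exists_prime_orderOf_dvd_card' r hrd
  obtain ⟨y, hyd⟩ : ∃ y : A, y = y' := ⟨_, rfl⟩
  have hyo : orderOf y = r := by rw [hyd, orderOf_coe, hy']
  have hyr : y ^ r = 1 := by rw [← hyo]; exact pow_orderOf_eq_one y
  have hrc : r.Coprime p := (Nat.coprime_primes hr hp.out).2 hrp
  have hyD : ∀ x ∈ D, y * x = x * y := by
    intro x hx
    rw [hyd]
    exact ((mem_centralizer_iff.1 y'.2) x hx).symm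
  -- a maximal `p`-subgroup centralised by `y`
  let 𝓕 : Set (Subgroup A) := {R | IsPGroup p R ∧ D ≤ R ∧ ∀ x ∈ R, y * x = x * y}
  obtain ⟨R, hR⟩ := (Set.toFinite 𝓕).exists_maximal ⟨D, hDp, le_rfl, hyD⟩
  obtain ⟨hRp, hDR, hyR⟩ := hR.1
  obtain ⟨U, hU⟩ := hRp.exists_le_sylow
  have hUT : (U : Subgroup A) ≤ T := le_of_isPGroup hcop U.isPGroup'
  have hRU : R = (U : Subgroup A) := by
    by_contra hne
    have hlt : R < (U : Subgroup A) := lt_of_le_of_ne hU hne
    have hnil : Group.IsNilpotent U := U.isPGroup'.isNilpotent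
    have hlt' : R.subgroupOf (U : Subgroup A) < ⊤ := by
      rw [lt_top_iff_ne_top, Ne, Subgroup.subgroupOf_eq_top]
      exact hlt.not_ge
    have h1 := Group.normalizerCondition_of_isNilpotent (G := U) _ hlt'
    obtain ⟨w, hw, hwR⟩ := SetLike.exists_of_lt h1
    have hwn : (w : A) ∈ Subgroup.normalizer (R : Set A) := by
      rw [mem_normalizer_iff] at hw ⊢
      intro x
      constructor
      · intro hx
        have := (hw ⟨x, hU hx⟩).1 (by rw [Subgroup.mem_subgroupOf]; exact hx)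
        rw [Subgroup.mem_subgroupOf] at this
        exact this
      · intro hx
        have hxT : x ∈ (U : Subgroup A) := by
          have h2 : x = (w : A)⁻¹ * (w * x * (w : A)⁻¹) * w := by group
          rw [h2]
          exact mul_mem (mul_mem (inv_mem w.2) (hU hx)) w.2
        have := (hw ⟨x, hxT⟩).2 (by rw [Subgroup.mem_subgroupOf]; exact hx)
        rw [Subgroup.mem_subgroupOf] at this
        exact this
    have hwy := comm_normalizer hDp hDc hrc hyr hDR hyR (hUT w.2) hwn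
    have hle : Subgroup.zpowers (w : A) ⊔ R ≤ (U : Subgroup A) :=
      sup_le (by rw [Subgroup.zpowers_le]; exact w.2) hU
    have h3 : Subgroup.zpowers (w : A) ⊔ R ∈ 𝓕 := by
      refine ⟨U.isPGroup'.to_le hle, hDR.trans le_sup_right, ?_⟩
      have h4 : Subgroup.zpowers (w : A) ⊔ R ≤ centralizer ({y} : Set A) := by
        refine sup_le ?_ fun x hx => ?_
        · rw [Subgroup.zpowers_le, mem_centralizer_singleton_iff]
          exact hwy.symm
        · rw [mem_centralizer_singleton_iff]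
          exact (hyR x hx).symm
      intro x hx
      exact (mem_centralizer_singleton_iff.1 (h4 hx)).symm
    have h5 := hR.2 h3 le_sup_right
    exact hwR (by
      rw [Subgroup.mem_subgroupOf]
      exact h5 ((le_sup_left : Subgroup.zpowers (w : A) ≤ _) (mem_zpowers _)))
  -- a Sylow subgroup of `T`
  obtain ⟨P⟩ : Nonempty (Sylow p T) := inferInstance
  have hPU : ∃ P : Sylow p T, ∀ x ∈ (P : Subgroup T), (x : A) ∈ (U : Subgroup A) := by
    refine ⟨U.subtype hUT, fun x hx => ?_⟩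
    exact hx
  obtain ⟨P, hP⟩ := hPU
  have h6 : MulAut.conjNormal (H := T) y = 1 := by
    refine S4613.result p hL (MulAut.conjNormal y) (fun h => ?_) P fun x hx => ?_
    · have h7 : orderOf (MulAut.conjNormal (H := T) y) ∣ r := by
        rw [← hyo]
        exact orderOf_map_dvd _ y
      have h8 := h.trans h7
      exact hrp ((Nat.prime_dvd_prime_iff_eq hp.out hr).1 h8).symm
    · apply Subtype.ext
      rw [MulAut.conjNormal_apply, hyR _ (hRU ▸ hP x hx), mul_inv_cancel_right]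
  have h7 : y ∈ centralizer (T : Set A) := by
    rw [mem_centralizer_iff]
    intro x hx
    have h8 : ((MulAut.conjNormal (H := T) y ⟨x, hx⟩ : T) : A) = x := by
      rw [h6]; rfl
    rw [MulAut.conjNormal_apply, mul_inv_eq_iff_eq_mul] at h8
    exact h8.symm
  rw [hcen, mem_bot] at h7
  rw [h7, orderOf_one] at hyo
  exact hr.one_lt.ne hyo

end Cfsg.Agent.H292.KB.Loc
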