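import Mathlib
import Cfsg.Agent.H508.KB.Defs
import Cfsg.Agent.H292.KB.Loc
import Cfsg.Agent.H504.TwoExt
import Cfsg.Agent.H761.LieExt
import Cfsg.Agent.H330.GowOne
import Cfsg.Agent.H330.Gow
import Cfsg.Agent.H674.Codegree
import Cfsg.Agent.H716.SplitAb
import Cfsg.Agent.H681.DegBasic
import Cfsg.Agent.H729.CharTwoBlock
import Cfsg.Agent.H400.LieLocal
import Cfsg.Agent.OddHalf.Known
import Cfsg.Agent.S0856

/-!
# The characters outside the principal block of an almost simple group in own characteristic (helper292, S4822, W5)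

`T` normal in `A` of index prime to `p`, simple of Lie type of characteristic `p`, `C_A(T) = 1`, `p` odd:

* `dz_of_not_mem` : the irreducible characters of `A` outside the principal block have degree divisible by `|A|_p`;
* `card_compl_le` : there are at most `ker M T` of them (they lie over the Steinberg character of `T`, Gallagher).
-/

set_option autoImplicit false
set_option linter.unusedSectionVars false

namespace Cfsg.Agent.H292.KB.Count

open Cfsg Subgroup
open Cfsg.Agent.BpLieP.Big (LocChar)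
open Cfsg.Agent.Blocks.Basic
open Cfsg.Agent.Characters.Core Cfsg.Agent.Characters.Clifford
open Cfsg.Agent.H508.KB (ker kB kap)

universe u

variable {A : Type u} [Group A] [Finite A] {p : ℕ} [hp : Fact p.Prime] {M : Ideal AlgInt} {T : Subgroup A}
  [hTn : T.Normal]

/-- the irreducible characters outside the principal block have defect zero -/
theorem dz_of_not_mem [IsSimpleGroup T] (hM : IsPModular p M) (hL : IsLieTypeChar p T) (hloc : LocChar p T)
    (hcen : centralizer (T : Set A) = ⊥) (hcop : ¬ p ∣ T.index) {χ : IrrCharacter A} (hχ : χ ∉ principalBlock M A) :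
    p ^ (Nat.card A).factorization p ∣ charDegree (χ : A → ℂ) := by
  have : M.IsPrime := hM.2.1.isPrime
  have hB : IsPBlock M (blockOf M (χ : A → ℂ)) := isPBlock_blockOf χ
  obtain ⟨D, hD⟩ := H729.CharTwoBlock.exists_isDefectGroup hM hB
  have hDp : IsPGroup p D := H729.CharTwoBlock.isPGroup_of_isDefectGroup hD
  by_cases hD1 : D = ⊥
  · subst hD1
    exact H729.CharTwoBlock.card_dvd_of_defect_bot hM hB hD (mem_blockOf_self χ)
  · exfalso
    have h2 := S0955.result p M hM _ hB D hD
    have h3 := Loc.cent_isPGroup hL hloc hcen hcop hDp hD1 h2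
    have h6 := H729.CharTwoBlock.eq_principal_of_centralizer hM hB hD h3
    apply hχ
    rw [← h6]
    exact mem_blockOf_self χ

theorem card_factorization (hcop : ¬ p ∣ T.index) : (Nat.card A).factorization p = (Nat.card T).factorization p := by
  rw [← Subgroup.card_mul_index T, Nat.factorization_mul Nat.card_pos.ne' Subgroup.index_ne_zero_of_finite,
    Finsupp.add_apply, Nat.factorization_eq_zero_of_not_dvd hcop, add_zero]

/-- uniqueness of the character of defect zero -/
theorem unique_dz [IsSimpleGroup T] (hL : IsLieTypeChar p T) (χ χ' : IrrCharacter T)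
    (h1 : p ^ (Nat.card T).factorization p ∣ charDegree (χ : T → ℂ))
    (h2 : p ^ (Nat.card T).factorization p ∣ charDegree (χ' : T → ℂ)) : χ = χ' := by
  have key : ∀ ψ : IrrCharacter T, p ^ (Nat.card T).factorization p ∣ charDegree (ψ : T → ℂ) →
      ¬ p ∣ Nat.card T / charDegree (ψ : T → ℂ) := by
    intro ψ hψ
    obtain ⟨c, hc⟩ : charDegree (ψ : T → ℂ) ∣ Nat.card T := H674.Codegree.charDegree_dvd_card ψ.2
    have hd0 : charDegree (ψ : T → ℂ) ≠ 0 := (charDegree_pos ψ.2).ne'
    rw [hc, Nat.mul_div_cancel_left _ (Nat.pos_of_ne_zero hd0)]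
    intro hpc
    have h1 : p ^ ((Nat.card T).factorization p + 1) ∣ Nat.card T := by
      rw [pow_succ]
      conv_rhs => rw [hc]
      exact mul_dvd_mul hψ hpc
    exact Nat.pow_succ_factorization_not_dvd Nat.card_pos.ne' hp.out h1
  have hS := H716.SplitAb.hasSplitAb_of_lie hp.out hL
  exact H330.GowOne.unique_of_hasSplitAb hS (H330.Gow.perfect_of_split (H330.Gow.hasSplit_of_ab hS)) χ χ'
    (key χ h1) (key χ' h2)

/-- the irreducible characters outside the principal block lie over the character of defect zero -/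
theorem over_of_dz [IsSimpleGroup T] [Fintype T] [Fintype A] (hL : IsLieTypeChar p T) (hcop : ¬ p ∣ T.index)
    {θ : IrrCharacter T} (hθ : charDegree (θ : T → ℂ) = p ^ (Nat.card T).factorization p) {χ : IrrCharacter A}
    (hχ : p ^ (Nat.card A).factorization p ∣ charDegree (χ : A → ℂ)) :
    classInner (fun x : T => (χ : A → ℂ) x) (θ : T → ℂ) ≠ 0 := by
  obtain ⟨ψ, d, hψ, hd, hne, h1, h2⟩ := H681.DegBasic.exists_constituent T χ.2 (irr_one_eq_charDegree χ.2)
  have hdeg : charDegree ψ = d := charDegree_of_eq hd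
  have h3 : p ^ (Nat.card T).factorization p ∣ charDegree ψ := by
    rw [hdeg]
    rw [card_factorization hcop] at hχ
    obtain ⟨k, hk⟩ := h1
    have hd0 : 0 < d := by rw [← hdeg]; exact charDegree_pos hψ
    rw [hk, Nat.mul_div_cancel_left _ hd0] at h2
    have h4 : ¬ p ∣ k := fun h => hcop (h.trans h2)
    rw [hk] at hχ
    exact (Nat.Coprime.pow_left _ ((Nat.Prime.coprime_iff_not_dvd hp.out).2 h4)).dvd_of_dvd_mul_right hχ
  have h5 : (⟨ψ, hψ⟩ : IrrCharacter T) = θ := unique_dz hL _ _ h3 (by rw [hθ])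
  rw [← h5]
  exact hne

/-- a character over the trivial character of `T` -/
theorem ker_of_over [Fintype T] [Fintype A] {β : A → ℂ} (hβ : IsIrrCharacter A β)
    (h : classInner (indFun T (fun _ => 1 : T → ℂ)) β ≠ 0) : ∀ s ∈ T, β s = β 1 := by
  rw [CharactersDeep.NormalInd.classInner_indFun T _ _ (isIrr_isClassFunction hβ)] at h
  have h' : classInner (fun n : T => β n) (fun _ => 1 : T → ℂ) ≠ 0 := by
    intro h0
    apply h
    rw [← classInner_conj_symm, h0, map_zero]
  have h1 := CharDeep.CliffordCorr.restrict_eq_smul_of_invariant T hβ (χ := fun _ => 1) isIrr_one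
    (fun g => rfl) h'
  intro s hs
  have h2 := congrFun h1 ⟨s, hs⟩
  have h3 := congrFun h1 1
  simp only [Pi.smul_apply, smul_eq_mul, mul_one] at h2 h3
  rw [h2, ← h3]
  rfl

/-- a character with `T` in the kernel is in the principal block -/
theorem mem_of_ker [IsSimpleGroup T] (hM : IsPModular p M) (hL : IsLieTypeChar p T) (hloc : LocChar p T)
    (hcen : centralizer (T : Set A) = ⊥) (hcop : ¬ p ∣ T.index) {β : IrrCharacter A}
    (hβ : ∀ s ∈ T, (β : A → ℂ) s = (β : A → ℂ) 1) : β ∈ principalBlock M A := by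
  classical
  have := Fintype.ofFinite A
  have := Fintype.ofFinite T
  by_contra hcon
  have h1 := dz_of_not_mem hM hL hloc hcen hcop hcon
  obtain ⟨ψ, d, hψ, hd, hne, h2, h3⟩ := H681.DegBasic.exists_constituent T β.2 (irr_one_eq_charDegree β.2)
  -- the constituent is trivial
  have h4 : (fun x : T => (β : A → ℂ) x) = ((β : A → ℂ) 1) • (fun _ => 1 : T → ℂ) := by
    funext x
    simp [hβ x x.2]
  have h5 : ψ = fun _ => 1 := by
    by_contra hne'
    apply hne
    have h6 : classInner (fun _ => 1 : T → ℂ) ψ = 0 := classInner_irr_ne isIrr_one hψ (Ne.symm hne')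
    rw [h4, classInner_smul_left, h6, mul_zero]
  have h6 : d = 1 := by
    rw [h5] at hd
    have hd' : (1 : ℂ) = d := hd
    exact_mod_cast hd'.symm
  rw [h6, Nat.div_one] at h3
  have hpT : p ∣ Nat.card T := H330.Gow.dvd_card (H330.Gow.hasSplit_of_ab (H716.SplitAb.hasSplitAb_of_lie hp.out hL))
  have h7 : p ∣ p ^ (Nat.card A).factorization p :=
    dvd_pow_self p (hp.out.factorization_pos_of_dvd Nat.card_pos.ne' (hpT.trans (Subgroup.card_subgroup_dvd_card T))).ne'
  exact hcop (h7.trans (h1.trans h3))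

/-- **There are at most `ker M T` irreducible characters outside the principal block.** -/
theorem card_compl_le [IsSimpleGroup T] (hM : IsPModular p M) (hL : IsLieTypeChar p T) (hloc : LocChar p T)
    (hna : ¬ IsMulCommutative T) (hcen : centralizer (T : Set A) = ⊥) (hcop : ¬ p ∣ T.index) :
    Nat.card {χ : IrrCharacter A // χ ∉ principalBlock M A} ≤ ker M T := by
  classical
  have := Fintype.ofFinite A
  have := Fintype.ofFinite T
  have hfin : Finite (IrrCharacter A) := finite_irr
  obtain ⟨θ, hθ, hext⟩ := H761.LieExt.lie_ext hna hL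
  obtain ⟨χ₀, hχ₀, -⟩ := H504.TwoZ.exists_ext T (MulEquiv.refl T) hext
  have hres : IsIrrCharacter T (fun k : T => (χ₀ : A → ℂ) k) :=
    H504.TwoZ.isIrr_restrict_of_ext T (MulEquiv.refl T) hχ₀
  have hχ₀θ : (fun k : T => (χ₀ : A → ℂ) k) = (θ : T → ℂ) := by
    funext k
    exact hχ₀ k
  have hone : ((fun _ => 1) * (fun k : T => (χ₀ : A → ℂ) k) : T → ℂ) = fun k : T => (χ₀ : A → ℂ) k := by
    funext k; simp
  have hχc : IsClassFunction A (χ₀ : A → ℂ) := isIrr_isClassFunction χ₀.2
  have key := S0856.result T (fun _ => 1) (fun k : T => (χ₀ : A → ℂ) k) isIrr_one hres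
    (fun g n => rfl) (fun g n => hχc n g) (by rw [hone]; exact hres) χ₀ χ₀.2 (fun n => rfl)
  rw [hone] at key
  have hsurj : ∀ χ : {χ : IrrCharacter A // χ ∉ principalBlock M A}, ∃ β : IrrCharacter A,
      (β ∈ principalBlock M A ∧ ∀ s ∈ T, (β : A → ℂ) s = (β : A → ℂ) 1) ∧
      (β : A → ℂ) * (χ₀ : A → ℂ) = (χ.1 : A → ℂ) := by
    rintro ⟨χ, hχ⟩
    have h1 := dz_of_not_mem hM hL hloc hcen hcop hχ
    have h2 := over_of_dz hL hcop hθ h1
    have h3 : (χ : A → ℂ) ∈ {ψ : A → ℂ | IsIrrCharacter A ψ ∧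
        classInner (indFun T (fun k : T => (χ₀ : A → ℂ) k)) ψ ≠ 0} := by
      refine ⟨χ.2, ?_⟩
      rw [CharactersDeep.NormalInd.classInner_indFun T _ _ (isIrr_isClassFunction χ.2), hχ₀θ]
      intro h0
      apply h2
      rw [← classInner_conj_symm, h0, map_zero]
    obtain ⟨β, ⟨hβ, hβ1⟩, hβχ⟩ := key.surjOn h3
    have h4 := ker_of_over hβ hβ1
    exact ⟨⟨β, hβ⟩, ⟨mem_of_ker hM hL hloc hcen hcop h4, h4⟩, hβχ⟩
  choose f hf hf' using hsurj
  refine Nat.card_le_card_of_injective (β := {χ : IrrCharacter A // χ ∈ principalBlock M A ∧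
    ∀ s ∈ T, (χ : A → ℂ) s = (χ : A → ℂ) 1}) (fun χ => ⟨f χ, hf χ⟩) ?_
  intro χ χ' h
  have h1 : f χ = f χ' := congrArg Subtype.val h
  apply Subtype.ext
  apply Subtype.ext
  rw [← hf' χ, ← hf' χ', h1]

end Cfsg.Agent.H292.KB.Count
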