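import Cfsg.Agent.H292.KB.Count
import Cfsg.Agent.H735.S4822.Kap
import Cfsg.Agent.H546.KB.Three
import Cfsg.Agent.H593.IMRank
import Cfsg.Agent.H617.SmallRank
import Cfsg.Agent.H632.TwoChars
import Cfsg.Agent.S4883

/-!
# `row_own`: groups of Lie type in own characteristic (helper292, S4822, W5)

* `ar5` : the arithmetic;
* `le_kB_add_ker` : `p + 1 ≤ k(B₀(A)) + ker`;
* `row_own`.
-/

set_option autoImplicit false
set_option linter.unusedSectionVars false

namespace Cfsg.Agent.H292.KB.Own

open Cfsg Subgroup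
open Cfsg.Agent.BpLieP.Big (LocChar)
open Cfsg.Agent.Blocks.Basic
open Cfsg.Agent.Characters.Core
open Cfsg.Agent.H508.KB (ker kB kap Good GoodN Row)

universe u

/-! ### Arithmetic -/

theorem choose_ge (t : ℕ) (ht : 1 ≤ t) : ∀ m : ℕ, (t + 1) * (t + 2) + 2 * m ≤ 2 * (3 + m + t - 1).choose t := by
  intro m
  induction m with
  | zero =>
    have h1 : 3 + 0 + t - 1 = t + 2 := by omega
    have h2 : (t + 2).choose t = (t + 2).choose 2 := by
      rw [← Nat.choose_symm (by omega : 2 ≤ t + 2)]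
      congr 1
    rw [h1, h2, Nat.choose_two_right, show t + 2 - 1 = t + 1 by omega,
      Nat.mul_div_cancel' ((Nat.even_mul_succ_self (t + 1)).two_dvd.trans (by rw [mul_comm]))]
    nlinarith
  | succ m ih =>
    obtain ⟨s, rfl⟩ : ∃ s, t = s + 1 := ⟨t - 1, by omega⟩
    have h1 : 3 + (m + 1) + (s + 1) - 1 = (3 + m + s) + 1 := by omega
    have h2 : 3 + m + (s + 1) - 1 = 3 + m + s := by omega
    rw [h2] at ih
    rw [h1, Nat.choose_succ_succ']
    have h3 : 1 ≤ (3 + m + s).choose s := Nat.choose_pos (by omega)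
    omega

/-- B5 (own characteristic) -/
theorem ar5 {p K f κ : ℕ} (h : p + 1 ≤ K + f) (hK : f + κ ≤ K + 1) (hκ : 3 ≤ κ) : GoodN p K f κ := by
  intro t g n ht hfg hn
  obtain ⟨m, rfl⟩ : ∃ m, κ = 3 + m := ⟨κ - 3, by omega⟩
  have hc := choose_ge t ht m
  obtain ⟨δ, rfl⟩ : ∃ δ, K = f + 2 + δ := ⟨K - f - 2, by omega⟩
  have h1 : 2 * δ + (t * t + 3 * t) + 2 * g ≤ 2 * n := by nlinarith
  have h2 : p - 1 ≤ δ + 2 * (t * g) := by omega
  have h3 : 4 * (p - 1) ≤ 4 * (δ + 2 * (t * g)) := Nat.mul_le_mul_left _ h2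
  refine h3.trans ?_
  have h4 : (2 * δ + (t * t + 3 * t) + 2 * g) ^ 2 ≤ (2 * n) ^ 2 := Nat.pow_le_pow_left h1 2
  have h5 : 4 * (4 * (δ + 2 * (t * g))) ≤ (2 * δ + (t * t + 3 * t) + 2 * g) ^ 2 := by
    obtain ⟨s, rfl⟩ : ∃ s, t = s + 1 := ⟨t - 1, by omega⟩
    have e1 : 0 ≤ δ * (s * s + 5 * s) := Nat.zero_le _
    have e2 : 0 ≤ g * (s * s + s) := Nat.zero_le _
    nlinarith [Nat.zero_le (δ * (s * s)), Nat.zero_le (δ * s), Nat.zero_le (g * (s * s)), Nat.zero_le (g * s),
      Nat.zero_le (δ * g), Nat.zero_le (δ * δ), sq_nonneg (((s + 1) * (s + 1) + 3 * (s + 1) : ℤ) - 2 * g)]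
  nlinarith

/-! ### The number of characters -/

variable {A : Type u} [Group A] [Finite A] {p : ℕ} [hp : Fact p.Prime] {M : Ideal AlgInt} {T : Subgroup A}
  [hTn : T.Normal]

/-- the number of `p`-regular classes -/
theorem le_blockRank [IsSimpleGroup T] (hna : ¬ IsMulCommutative T) (hcen : centralizer (T : Set A) = ⊥)
    (P : Sylow p T) (hP : ¬ IsCyclic (P : Subgroup T)) : p ≤ blockRank p (Set.univ : Set (IrrCharacter A)) := by
  classical
  let φ : A →* MulAut T := MulAut.conjNormal
  have hφ : Function.Injective φ := by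
    rw [injective_iff_map_eq_one]
    intro a ha
    have h7 : a ∈ centralizer (T : Set A) := by
      rw [mem_centralizer_iff]
      intro x hx
      have h8 : ((MulAut.conjNormal (H := T) a ⟨x, hx⟩ : T) : A) = x := by
        have h9 := DFunLike.congr_fun ha (⟨x, hx⟩ : T)
        exact congrArg Subtype.val h9
      rw [MulAut.conjNormal_apply, mul_inv_eq_iff_eq_mul] at h8
      exact h8.symm
    rwa [hcen, mem_bot] at h7
  have hG : (MulAut.conj : T →* MulAut T).range ≤ φ.range := by
    rintro _ ⟨t, rfl⟩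
    refine ⟨(t : A), ?_⟩
    ext x
    show ((MulAut.conjNormal (t : A) x : T) : A) = ((MulAut.conj t x : T) : A)
    rw [MulAut.conjNormal_apply]
    rfl
  have key := S4883.result hna p P hP φ.range hG
  let ι := {c : ConjClasses ↥φ.range // ∃ g : ↥φ.range, ConjClasses.mk g = c ∧ ¬ p ∣ orderOf g}
  have : Finite ι := inferInstance
  have : Fintype ι := Fintype.ofFinite _
  have hex : ∀ c : ι, ∃ a : A, ConjClasses.mk (φ.rangeRestrict a) = c.1 ∧ ¬ p ∣ orderOf a := by
    rintro ⟨c, g, hg, hpg⟩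
    obtain ⟨a, rfl⟩ := φ.rangeRestrict_surjective g
    refine ⟨a, hg, ?_⟩
    rwa [orderOf_injective φ.rangeRestrict (MonoidHom.rangeRestrict_injective_iff.2 hφ)] at hpg
  choose t ht htp using hex
  have h1 := H593.IMRank.card_le_blockRank p t htp (fun i j hij => by
    apply Subtype.ext
    rw [← ht i, ← ht j, ConjClasses.mk_eq_mk_iff_isConj]
    exact φ.rangeRestrict.map_isConj hij)
  rw [Nat.card_eq_fintype_card] at key
  exact key.trans h1

theorem le_kB_add_ker [IsSimpleGroup T] (hM : IsPModular p M) (hL : IsLieTypeChar p T) (hloc : LocChar p T)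
    (hna : ¬ IsMulCommutative T) (hcen : centralizer (T : Set A) = ⊥) (hcop : ¬ p ∣ T.index)
    (P : Sylow p T) (hP : ¬ IsCyclic (P : Subgroup T)) (h2 : 2 ≤ kB M A) : p + 1 ≤ kB M A + ker M T := by
  classical
  have := Fintype.ofFinite A
  have hMp : M.IsPrime := hM.2.1.isPrime
  have hB : IsPBlock M (principalBlock M A) := ⟨⟨fun _ => 1, isIrr_one⟩, rfl⟩
  have hU : H608.BlockRank.IsUnion M (principalBlock M A) := H608.BlockRank.isUnion_of_isPBlock hB
  have hU' : H608.BlockRank.IsUnion M (principalBlock M A)ᶜ := by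
    intro χ ψ h hχ hψ
    exact hχ (hU ψ χ (sameBlock_symm h) hψ)
  have h3 := H608.BlockRank.blockRank_union hM hU hU' disjoint_compl_right
  rw [Set.union_compl_self] at h3
  have h4 := le_blockRank hna hcen P hP
  have h5 : blockRank p (principalBlock M A) < Nat.card (principalBlock M A) := H632.TwoChars.blockRank_lt hM hB h2
  have h6 : blockRank p ((principalBlock M A)ᶜ) ≤ Nat.card ↥((principalBlock M A)ᶜ) :=
    H617.SmallRank.blockRank_le_card p _
  have h7 : Nat.card ↥((principalBlock M A)ᶜ) ≤ ker M T := Count.card_compl_le hM hL hloc hna hcen hcop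
  have h8 : kB M A = Nat.card (principalBlock M A) := rfl
  omega

/-- **W5.** -/
theorem row_own (S : Type u) [Group S] [Finite S] [hS : IsSimpleGroup S] (h11 : 11 ≤ p) (hM : IsPModular p M)
    (h : IsLieTypeChar p S) (hP : ∀ P : Sylow p S, ¬ IsCyclic (P : Subgroup S)) : Row p M S := by
  intro A _ _ T _ ⟨e⟩ hcen hcop
  have hTs : IsSimpleGroup T := e.symm.isSimpleGroup
  have hL : IsLieTypeChar p T := OddHalf.Known.isLieTypeChar_congr e h
  have hloc : LocChar p T := H400.LieLocal.local_char_of_lie hL (by omega)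
  obtain ⟨P⟩ : Nonempty (Sylow p T) := inferInstance
  have hPc : ¬ IsCyclic (P : Subgroup T) := by
    intro hc
    obtain ⟨Q, hQ⟩ : ∃ Q : Sylow p S, (Q : Subgroup S) = (P : Subgroup T).comap e.toMonoidHom :=
      ⟨P.comapOfInjective e.toMonoidHom e.injective (by
        intro x _
        exact ⟨e.symm x, e.apply_symm_apply x⟩), rfl⟩
    apply hP Q
    have hle : (Q : Subgroup S).map e.toMonoidHom ≤ (P : Subgroup T) := by
      rw [hQ]
      exact Subgroup.map_comap_le _ _
    have h1 : IsCyclic ((Q : Subgroup S).map e.toMonoidHom) :=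
      isCyclic_of_injective (Subgroup.inclusion hle) (Subgroup.inclusion_injective hle)
    exact isCyclic_of_injective ((Q : Subgroup S).equivMapOfInjective e.toMonoidHom e.injective).toMonoidHom
      ((Q : Subgroup S).equivMapOfInjective e.toMonoidHom e.injective).injective
  have hsp := H330.Gow.hasSplit_of_ab (H716.SplitAb.hasSplitAb_of_lie hp.out hL)
  have hpT : p ∣ Nat.card T := H330.Gow.dvd_card hsp
  have hna : ¬ IsMulCommutative T := by
    intro hc
    obtain ⟨a, b, hab⟩ := H400.LieLocal.exists_noncomm (H400.LieLocal.center_eq_bot hsp)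
    exact hab (hc.is_comm.comm a b)
  obtain ⟨x, hx⟩ := exists_prime_orderOf_dvd_card' p hpT
  have hxA : orderOf (x : A) = p := by rw [orderOf_coe, hx]
  have hx1 : (1 : A) ≠ x := by
    intro h1
    rw [← h1, orderOf_one] at hxA
    exact hp.out.one_lt.ne hxA
  have hkap : 3 ≤ kap M T := by
    classical
    have h1 := H735.S4822.card_le_kap T hM hcop hTs hna hpT ({1, (x : A)} : Finset A) (by
      intro y hy
      rw [Finset.mem_insert, Finset.mem_singleton] at hy
      rcases hy with rfl | rfl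
      · exact ⟨one_mem _, 0, by rw [orderOf_one, pow_zero]⟩
      · exact ⟨x.2, 1, by rw [hxA, pow_one]⟩) (by
      intro y hy z hz hyz
      rw [Finset.mem_insert, Finset.mem_singleton] at hy hz
      rcases hy with rfl | rfl <;> rcases hz with rfl | rfl
      · rfl
      · exact isConj_one_right.1 hyz |>.symm ▸ rfl
      · exact (isConj_one_left.1 hyz)
      · rfl)
    rw [Finset.card_pair hx1] at h1
    exact h1
  have hle := H546.KB.ker_add_kap_le T hM hcop
  have hkB : 2 ≤ kB M A := by omega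
  exact ar5 (le_kB_add_ker hM hL hloc hna hcen hcop P hPc hkB) hle hkap

end Cfsg.Agent.H292.KB.Own
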